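import Mathlib.Algebra.Module.CharacterModule
import Mathlib.Topology.Instances.AddCircle.Defs
import Mathlib.Topology.Separation.Profinite
import Mathlib.Topology.Algebra.OpenSubgroup
import Mathlib.GroupTheory.FiniteAbelian.Basic
import Mathlib.GroupTheory.Index

/-!
# Characters with values in `ℚ/ℤ` and open subgroups of finite index
-/

universe u v

namespace Groth.Agent.ProComplLib

open Set Topology Pointwise

/-- The group `ℚ/ℤ`. -/
abbrev QZ : Type := ℚ ⧸ AddSubgroup.zmultiples (1 : ℚ)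

theorem isOfFinAddOrder_QZ (x : QZ) : IsOfFinAddOrder x := by
  obtain ⟨q, rfl⟩ := QuotientAddGroup.mk_surjective x
  refine isOfFinAddOrder_iff_nsmul_eq_zero.2 ⟨q.den, q.den_pos, ?_⟩
  rw [← QuotientAddGroup.mk_nsmul, QuotientAddGroup.eq_zero_iff]
  exact AddSubgroup.mem_zmultiples_iff.2 ⟨q.num, by
    rw [zsmul_one, nsmul_eq_mul, mul_comm, Rat.mul_den_eq_num]⟩

theorem exists_extend {A : Type u} {B : Type v} [AddCommGroup A] [AddCommGroup B] (i : A →+ B)
    (hi : Function.Injective i) (χ : A →+ QZ) : ∃ ψ : B →+ QZ, ψ.comp i = χ :=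
  (Module.Baer.of_divisible (AddCircle (1 : ℚ))).extension_property_addMonoidHom i hi χ

theorem exists_ne_zero {A : Type u} [AddCommGroup A] {a : A} (ha : a ≠ 0) :
    ∃ χ : A →+ QZ, χ a ≠ 0 :=
  CharacterModule.exists_character_apply_ne_zero_of_ne_zero ha

theorem finite_range_of_nsmul {A : Type u} [AddCommGroup A] (χ : A →+ QZ) {n : ℕ} (hn : 0 < n)
    (h : ∀ a, n • χ a = 0) : (Set.range χ).Finite :=
  (AddCircle.finite_torsion (1 : ℚ) hn).subset (by rintro _ ⟨a, rfl⟩; exact h a)

theorem finiteIndex_ker {A : Type u} [AddCommGroup A] {H : Type v} [AddGroup H] (χ : A →+ H)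
    (h : (Set.range χ).Finite) : χ.ker.FiniteIndex := by
  have : Finite χ.range := by
    rw [← χ.coe_range] at h
    exact h.to_subtype
  have : Finite (A ⧸ χ.ker) :=
    Finite.of_equiv _ (QuotientAddGroup.quotientKerEquivRange χ).toEquiv.symm
  exact AddSubgroup.finiteIndex_of_finite_quotient

/-- Separating a point from a subgroup containing `n • A` by a character killing the subgroup. -/
theorem exists_character_of_notMem {A : Type u} [AddCommGroup A] (B : AddSubgroup A) {a : A}
    (ha : a ∉ B) : ∃ χ : A →+ QZ, B ≤ χ.ker ∧ χ a ≠ 0 := by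
  obtain ⟨χ, hχ⟩ := exists_ne_zero (A := A ⧸ B) (a := (a : A ⧸ B))
    (fun h => ha ((QuotientAddGroup.eq_zero_iff a).1 h))
  refine ⟨χ.comp (QuotientAddGroup.mk' B), fun b hb => ?_, hχ⟩
  simp [AddMonoidHom.mem_ker, (QuotientAddGroup.eq_zero_iff b).2 hb]

theorem finiteIndex_ker_of_compactlyGenerated {B : Type u} [AddCommGroup B] [TopologicalSpace B]
    [IsTopologicalAddGroup B] (hcg : ∃ K : Set B, IsCompact K ∧ AddSubgroup.closure K = ⊤)
    (χ : B →+ QZ) (hχ : IsOpen (χ.ker : Set B)) : χ.ker.FiniteIndex := by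
  obtain ⟨K, hK, hgen⟩ := hcg
  obtain ⟨t, ht⟩ := hK.elim_finite_subcover (fun q : QZ => (χ ⁻¹' {q} : Set B)) (fun q => by
    by_cases hq : ∃ b, χ b = q
    · obtain ⟨b, rfl⟩ := hq
      have : (χ ⁻¹' {χ b} : Set B) = (fun x => x - b) ⁻¹' (χ.ker : Set B) := by
        ext x
        simp [sub_eq_zero]
      rw [this]
      exact hχ.preimage (continuous_id.sub continuous_const)
    · convert isOpen_empty
      exact Set.eq_empty_of_forall_notMem fun b hb => hq ⟨b, hb⟩)
    (fun b _ => Set.mem_iUnion.2 ⟨χ b, rfl⟩)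
  have hle : χ.range ≤ AddSubgroup.closure (↑t : Set QZ) := by
    rw [AddMonoidHom.range_eq_map, ← hgen, AddMonoidHom.map_closure]
    refine AddSubgroup.closure_mono ?_
    rintro _ ⟨b, hb, rfl⟩
    obtain ⟨q, hq, hbq⟩ := Set.mem_iUnion₂.1 (ht hb)
    exact (Set.mem_singleton_iff.1 hbq).symm ▸ hq
  have hfg : AddGroup.FG (AddSubgroup.closure (↑t : Set QZ)) :=
    AddGroup.closure_finite_fg _
  have : Finite (AddSubgroup.closure (↑t : Set QZ)) :=
    AddCommGroup.finite_of_fg_torsion _ fun x =>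
      (AddSubmonoid.isOfFinAddOrder_coe).1 (isOfFinAddOrder_QZ x)
  refine finiteIndex_ker χ ?_
  rw [← χ.coe_range]
  exact Set.Finite.subset (Set.toFinite _) hle

theorem exists_open_addSubgroup_subset {B : Type u} [AddCommGroup B] [TopologicalSpace B]
    [IsTopologicalAddGroup B] [T2Space B] [LocallyCompactSpace B] [TotallyDisconnectedSpace B]
    {O : Set B} (hO : IsOpen O) (h0 : (0 : B) ∈ O) :
    ∃ H : AddSubgroup B, IsOpen (H : Set B) ∧ (H : Set B) ⊆ O := by
  obtain ⟨K, hK, h0K, hKO⟩ := exists_compact_subset hO h0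
  obtain ⟨W, hW, h0W, hWK⟩ :=
    loc_compact_Haus_tot_disc_of_zero_dim.exists_subset_of_mem_open h0K isOpen_interior
  have hWc : IsCompact W := hK.of_isClosed_subset hW.1 (hWK.trans interior_subset)
  obtain ⟨V, hV, hVW⟩ := compact_open_separated_add_left hWc hW.2 subset_rfl
  let H : AddSubgroup B :=
    { carrier := {g | ∀ w, g + w ∈ W ↔ w ∈ W}
      zero_mem' := fun w => by simp
      add_mem' := fun {a b} ha hb w => by rw [add_assoc, ha, hb]
      neg_mem' := fun {a} ha w => by rw [← ha, add_neg_cancel_left] }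
  have hVH : V ∩ -V ⊆ (H : Set B) := fun g hg w => by
    refine ⟨fun h => ?_, fun h => hVW (Set.add_mem_add hg.1 h)⟩
    have := hVW (Set.add_mem_add hg.2 h)
    rwa [neg_add_cancel_left] at this
  refine ⟨H, H.isOpen_of_mem_nhds (g := 0) (Filter.mem_of_superset
    (Filter.inter_mem hV (neg_mem_nhds_zero B hV)) hVH), fun g hg => ?_⟩
  have := (hg 0).2 h0W
  rw [add_zero] at this
  exact hKO (interior_subset (hWK this))

open DirectSum in
/-- A finite abelian group is its own bidual. -/
theorem bidual_surjective {S : Type u} [AddCommGroup S] [Finite S] (Φ : (S →+ QZ) →+ QZ) :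
    ∃ s : S, ∀ χ : S →+ QZ, χ s = Φ χ := by
  classical
  have : Fact ((0 : ℚ) < 1) := ⟨one_pos⟩
  have key : ∀ (T : Type u) [AddCommGroup T] [Finite T],
      Finite (T →+ QZ) ∧ Nat.card (T →+ QZ) ≤ Nat.card T := by
    intro T _ _
    obtain ⟨ι, _, n, hn, ⟨e⟩⟩ := AddCommGroup.equiv_directSum_zmod_of_finite' T
    have hpos : ∀ i, 0 < n i := fun i => zero_lt_one.trans (hn i)
    have hfin : ∀ i, Finite {u : QZ // n i • u = 0} := fun i =>
      (AddCircle.finite_torsion (1 : ℚ) (hpos i)).to_subtype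
    let F : (T →+ QZ) → ∀ i, {u : QZ // n i • u = 0} := fun χ i =>
      ⟨χ (e.symm (DirectSum.of (fun i => ZMod (n i)) i 1)), by
        rw [← map_nsmul, ← map_nsmul, ← map_nsmul, nsmul_one, ZMod.natCast_self, map_zero,
          map_zero, map_zero]⟩
    have hF : Function.Injective F := by
      intro χ χ' h
      refine AddMonoidHom.ext fun t => ?_
      obtain ⟨d, rfl⟩ := e.symm.surjective t
      suffices χ.comp e.symm.toAddMonoidHom = χ'.comp e.symm.toAddMonoidHom from
        DFunLike.congr_fun this d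
      refine DirectSum.addHom_ext fun i y => ?_
      obtain ⟨k, rfl⟩ := ZMod.intCast_surjective y
      have h1 := congrArg Subtype.val (congrFun h i)
      simp only [F] at h1
      rw [← zsmul_one (R := ZMod (n i)), map_zsmul, map_zsmul, map_zsmul]
      exact congrArg (k • ·) h1
    have := Finite.of_injective F hF
    refine ⟨this, (Nat.card_le_card_of_injective F hF).trans ?_⟩
    rw [Nat.card_pi, Nat.card_congr (e.toEquiv.trans DFinsupp.equivFunOnFintype), Nat.card_pi]
    refine Finset.prod_le_prod (fun _ _ => Nat.zero_le _) fun i _ => ?_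
    have : NeZero (n i) := ⟨(hpos i).ne'⟩
    rw [Nat.card_zmod]
    change Nat.card ({u : AddCircle (1 : ℚ) | n i • u = 0} : Set _) ≤ n i
    rw [Nat.card_coe_set_eq, ← Nat.cast_le (α := ℕ∞),
      (AddCircle.finite_torsion (1 : ℚ) (hpos i)).cast_ncard_eq]
    exact AddCircle.card_torsion_le_of_isSMulRegular _ _ (hpos i).ne'
      (.of_right_eq_zero_of_smul fun _ => by simp [(hpos i).ne'])
  obtain ⟨hfin, hle⟩ := key S
  obtain ⟨hfin2, hle2⟩ := key (S →+ QZ)
  let ev : S → ((S →+ QZ) →+ QZ) := fun s => AddMonoidHom.eval s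
  have hinj : Function.Injective ev := fun a b h => by
    by_contra hne
    obtain ⟨χ, hχ⟩ := exists_ne_zero (sub_ne_zero.2 hne)
    exact hχ (by rw [map_sub, sub_eq_zero]; exact DFunLike.congr_fun h χ)
  obtain ⟨s, hs⟩ := ((Nat.bijective_iff_injective_and_card ev).2
    ⟨hinj, le_antisymm (Nat.card_le_card_of_injective ev hinj) (hle2.trans hle)⟩).2 Φ
  exact ⟨s, fun χ => DFunLike.congr_fun hs χ⟩

end Groth.Agent.ProComplLib
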