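import Groth.Prelude.Def_W4c61motalbdualityCompl
import Mathlib.Topology.Compactness.Compact
import Mathlib.Topology.Maps.Basic
import Mathlib.Data.Fintype.Quotient

/-!
# The completion with respect to open subgroups of finite index: a compactness criterion for lifting
-/

universe u v

namespace Groth.Agent.ProComplLib

open W4c61motalbduality

variable {A : Type u} [AddCommGroup A] [TopologicalSpace A]
variable {B : Type v} [AddCommGroup B] [TopologicalSpace B]

/-- The intersection of finitely many open subgroups of finite index. -/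
theorem exists_openFI_le (s : Finset (OpenFI B)) :
    ∃ V₀ : OpenFI B, ∀ V ∈ s, V₀.toAddSubgroup ≤ V.toAddSubgroup := by
  classical
  induction s using Finset.induction with
  | empty => exact ⟨⟨⊤, by simp, inferInstance⟩, by simp⟩
  | insert W s _ ih =>
    obtain ⟨V₀, h⟩ := ih
    have := W.finiteIndex'
    have := V₀.finiteIndex'
    refine ⟨⟨W.toAddSubgroup ⊓ V₀.toAddSubgroup, W.isOpen'.inter V₀.isOpen', inferInstance⟩, ?_⟩
    intro V hV
    rcases Finset.mem_insert.1 hV with rfl | hV
    · exact inf_le_left
    · exact inf_le_right.trans (h V hV)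

/-- An element of the completion of `B` which is, modulo every open subgroup of finite index,
in the image of `A`, is in the image of the completion of `A`. -/
theorem mem_range_map_of_forall (f : A →+ B) (hf : Continuous f) (y : FICompl B)
    (h : ∀ V : OpenFI B, ∃ a : A, (f a : B ⧸ V.toAddSubgroup) = y.1 V) :
    y ∈ (FICompl.map f hf).range := by
  classical
  letI : ∀ U : OpenFI A, TopologicalSpace (A ⧸ U.toAddSubgroup) := fun _ => ⊥
  haveI : ∀ U : OpenFI A, DiscreteTopology (A ⧸ U.toAddSubgroup) := fun _ => ⟨rfl⟩
  haveI : ∀ U : OpenFI A, Finite (A ⧸ U.toAddSubgroup) := fun U =>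
    haveI := U.finiteIndex'
    AddSubgroup.finite_quotient_of_finiteIndex
  let Z : OpenFI B → Set ((U : OpenFI A) → A ⧸ U.toAddSubgroup) := fun V =>
    {x | QuotientAddGroup.map (V.comap f hf).toAddSubgroup V.toAddSubgroup f
      (V.comap_le f) (x (V.comap f hf)) = y.1 V}
  have hK : IsCompact {x : (U : OpenFI A) → A ⧸ U.toAddSubgroup |
      ∀ (U V : OpenFI A) (h : U.toAddSubgroup ≤ V.toAddSubgroup),
        QuotientAddGroup.map U.toAddSubgroup V.toAddSubgroup (AddMonoidHom.id A) h (x U) = x V} := by
    simp only [Set.ofPred_forall]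
    refine (isClosed_iInter fun U => isClosed_iInter fun V => isClosed_iInter fun h => ?_).isCompact
    exact isClosed_eq (Continuous.comp (g := fun q =>
        QuotientAddGroup.map U.toAddSubgroup V.toAddSubgroup (AddMonoidHom.id A) h q)
      continuous_of_discreteTopology (continuous_apply U)) (continuous_apply V)
  obtain ⟨x, hx, hxZ⟩ := hK.inter_iInter_nonempty Z
    (fun V => IsClosed.preimage (f := fun x : (U : OpenFI A) → A ⧸ U.toAddSubgroup => x (V.comap f hf))
      (continuous_apply _) (isClosed_discrete
      {q | QuotientAddGroup.map (V.comap f hf).toAddSubgroup V.toAddSubgroup f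
        (V.comap_le f) q = y.1 V}))
    (fun s => by
      obtain ⟨V₀, hV₀⟩ := exists_openFI_le s
      obtain ⟨a, ha⟩ := h V₀
      refine ⟨(toFICompl A a).1, (toFICompl A a).2, Set.mem_iInter₂.2 fun V hV => ?_⟩
      change (f a : B ⧸ V.toAddSubgroup) = y.1 V
      rw [← y.2 V₀ V (hV₀ V hV), ← ha]
      rfl)
  exact ⟨⟨x, hx⟩, Subtype.ext (funext fun V => Set.mem_iInter.1 hxZ V)⟩

end Groth.Agent.ProComplLib
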