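import Mathlib.Topology.Algebra.Category.ProfiniteGrp.Completion

/-!
# The functoriality of profinite completion, componentwise
-/

universe u

namespace Groth.Agent.ProComplLib

open CategoryTheory ProfiniteGrp

variable {G H : GrpCat.{u}}

theorem map_eta (f : G ⟶ H) (g : G) :
    (profiniteCompletion.map f).hom (ProfiniteCompletion.etaFn G g) =
      ProfiniteCompletion.etaFn H (f.hom g) :=
  ConcreteCategory.congr_hom (ProfiniteCompletion.lift_eta (f ≫ ProfiniteCompletion.eta H)) g

theorem continuous_component (G : GrpCat.{u}) (K : FiniteIndexNormalSubgroup G) :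
    Continuous fun x : ProfiniteCompletion.completion G => x.1 K :=
  (continuous_apply K).comp continuous_subtype_val

instance discrete_obj (G : GrpCat.{u}) (K : FiniteIndexNormalSubgroup G) :
    DiscreteTopology ((ProfiniteCompletion.diagram G).obj K) := ⟨rfl⟩

/-- The component at `K` of the image of `x` is determined by the component of `x` at the
preimage of `K`. -/
theorem map_component (f : G ⟶ H) (K : FiniteIndexNormalSubgroup H)
    (x : ProfiniteCompletion.completion G) :
    ((profiniteCompletion.map f).hom x).1 K =
      QuotientGroup.map (K.comap f.hom).toSubgroup K.toSubgroup f.hom (fun _ h => h)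
        (x.1 (K.comap f.hom)) := by
  let φ : (ProfiniteCompletion.diagram G).obj (K.comap f.hom) →
      (ProfiniteCompletion.diagram H).obj K :=
    fun q => QuotientGroup.map (K.comap f.hom).toSubgroup K.toSubgroup f.hom (fun _ h => h) q
  have hφ : Continuous φ := continuous_of_discreteTopology
  refine congrFun ((ProfiniteCompletion.denseRange G).equalizer
    ((continuous_component H K).comp (profiniteCompletion.map f).hom.continuous_toFun)
    (hφ.comp (continuous_component G _)) (funext fun g => ?_)) x
  exact congrArg (fun z : ProfiniteCompletion.completion H => z.1 K) (map_eta f g)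

theorem exists_finiteIndex_le (s : Finset (FiniteIndexNormalSubgroup H)) :
    ∃ K₀ : FiniteIndexNormalSubgroup H, ∀ K ∈ s, K₀ ≤ K := by
  classical
  induction s using Finset.induction with
  | empty => exact ⟨FiniteIndexNormalSubgroup.ofSubgroup ⊤, by simp⟩
  | insert W s _ ih =>
    obtain ⟨K₀, h⟩ := ih
    refine ⟨W ⊓ K₀, fun K hK => ?_⟩
    rcases Finset.mem_insert.1 hK with rfl | hK
    · exact inf_le_left
    · exact inf_le_right.trans (h K hK)

/-- An element of the completion of `H` which is in the image of `G` modulo every finite index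
normal subgroup is in the image of the completion of `G`. -/
theorem exists_map_eq_of_forall (f : G ⟶ H) (y : ProfiniteCompletion.completion H)
    (h : ∀ K : FiniteIndexNormalSubgroup H, ∃ g : G,
      (ProfiniteCompletion.etaFn H (f.hom g)).1 K = y.1 K) :
    ∃ x, (profiniteCompletion.map f).hom x = y := by
  let φ : ProfiniteCompletion.completion G → ProfiniteCompletion.completion H :=
    fun x => (profiniteCompletion.map f).hom x
  have hφ : Continuous φ := (profiniteCompletion.map f).hom.continuous_toFun
  have hclosed : IsClosed (Set.range φ) := (isCompact_range hφ).isClosed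
  let Z : FiniteIndexNormalSubgroup H → Set (ProfiniteCompletion.completion H) :=
    fun K => (fun z => z.1 K) ⁻¹' {y.1 K}
  have hZ : ∀ K, IsClosed (Z K) := fun K =>
    (isClosed_discrete {y.1 K}).preimage (continuous_component H K)
  obtain ⟨z, hz, hzZ⟩ := hclosed.isCompact.inter_iInter_nonempty Z hZ fun s => by
    obtain ⟨K₀, hK₀⟩ := exists_finiteIndex_le s
    obtain ⟨g, hg⟩ := h K₀
    refine ⟨ProfiniteCompletion.etaFn H (f.hom g), ⟨_, map_eta f g⟩,
      Set.mem_iInter₂.2 fun K hK => ?_⟩
    refine ((ProfiniteCompletion.etaFn H (f.hom g)).2 (homOfLE (hK₀ K hK))).symm.trans ?_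
    rw [hg]
    exact y.2 (homOfLE (hK₀ K hK))
  obtain ⟨x, rfl⟩ := hz
  exact ⟨x, Subtype.ext (funext fun K => Set.mem_iInter.1 hzZ K)⟩

end Groth.Agent.ProComplLib
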